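import Mathlib
import Groth.Agent.DvrFlatLib.ReducedScheme
import Groth.Agent.EquidimLib.GeomReduced
import Groth.Agent.EquidimLib.ComponentUnique
import Groth.Agent.SecNhdLib.Descent
import Groth.Agent.RichLib.FlatModel

/-!
# Reducedness along flat morphisms of finite presentation with geometrically reduced fibres
-/

set_option autoImplicit false

universe u

open CategoryTheory Limits AlgebraicGeometry TensorProduct

namespace RedFlatLib

theorem isReduced_spec_stalk (R : Type u) [CommRing R] [_root_.IsReduced R] (p : PrimeSpectrum R) :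
    _root_.IsReduced ((Spec (CommRingCat.of R)).presheaf.stalk p) := by
  haveI : _root_.IsReduced (CommRingCat.of R : Type u) := ‹_root_.IsReduced R›
  infer_instance

theorem flat_fromSpecStalk (Y : Scheme.{u}) (y : Y) : Flat (Y.fromSpecStalk y) := by
  obtain ⟨U, hU, hy, -⟩ := exists_isAffineOpen_mem_and_subset (x := y) (U := (⊤ : Y.Opens)) trivial
  rw [← hU.fromSpecStalk_eq_fromSpecStalk hy]
  haveI : Flat (Spec.map (Y.presheaf.germ U y hy)) := by
    rw [HasRingHomProperty.Spec_iff (P := @Flat)]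
    letI := (Y.presheaf.germ U y hy).hom.toAlgebra
    haveI := hU.isLocalization_stalk ⟨y, hy⟩
    exact RingHom.flat_algebraMap_iff.mpr (IsLocalization.flat _ (hU.primeIdealOf ⟨y, hy⟩).asIdeal.primeCompl)
  unfold IsAffineOpen.fromSpecStalk
  infer_instance

/-- A finite set of elements of a base change comes from a finitely generated subalgebra. -/
theorem exists_fg_lift {A R B : Type u} [CommRing A] [CommRing R] [Algebra A R] [CommRing B] [Algebra A B]
    (s : Finset (R ⊗[A] B)) : ∃ S : Subalgebra A R, S.FG ∧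
      ∀ b ∈ s, b ∈ Set.range (Algebra.TensorProduct.map S.val (AlgHom.id A B)) := by
  classical
  have mono : ∀ {S T : Subalgebra A R}, S ≤ T → Set.range (Algebra.TensorProduct.map S.val (AlgHom.id A B)) ⊆
      Set.range (Algebra.TensorProduct.map T.val (AlgHom.id A B)) := by
    rintro S T hST _ ⟨z, rfl⟩
    refine ⟨Algebra.TensorProduct.map (Subalgebra.inclusion hST) (AlgHom.id A B) z, ?_⟩
    rw [← AlgHom.comp_apply, ← Algebra.TensorProduct.map_comp]
    rfl
  have key : ∀ b : R ⊗[A] B, ∃ S : Subalgebra A R, S.FG ∧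
      b ∈ Set.range (Algebra.TensorProduct.map S.val (AlgHom.id A B)) := by
    intro b
    induction b with
    | zero => exact ⟨⊥, Subalgebra.fg_bot, 0, map_zero _⟩
    | tmul r c =>
      exact ⟨Algebra.adjoin A {r}, Subalgebra.fg_def.mpr ⟨{r}, Set.finite_singleton r, rfl⟩,
        (⟨r, Algebra.subset_adjoin rfl⟩ : Algebra.adjoin A {r}) ⊗ₜ c, rfl⟩
    | add x y hx hy =>
      obtain ⟨S, hS, hxS⟩ := hx
      obtain ⟨T, hT, hyT⟩ := hy
      obtain ⟨u', hu⟩ := mono (le_sup_left : S ≤ S ⊔ T) hxS
      obtain ⟨v', hv⟩ := mono (le_sup_right : T ≤ S ⊔ T) hyT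
      exact ⟨S ⊔ T, hS.sup hT, u' + v', by rw [map_add, hu, hv]⟩
  induction s using Finset.induction_on with
  | empty => exact ⟨⊥, Subalgebra.fg_bot, fun b hb ↦ absurd hb (Finset.notMem_empty b)⟩
  | insert a s _ ih =>
    obtain ⟨S, hS, hs⟩ := ih
    obtain ⟨T, hT, ha⟩ := key a
    refine ⟨S ⊔ T, hS.sup hT, fun b hb ↦ ?_⟩
    rcases Finset.mem_insert.mp hb with rfl | hb
    · exact mono le_sup_right ha
    · exact mono le_sup_left (hs b hb)

/-- A flat algebra of finite presentation is the base change of one over a Noetherian subring. -/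
theorem exists_flat_model_subring (R B : Type u) [CommRing R] [CommRing B] [Algebra R B]
    [Algebra.FinitePresentation R B] [Module.Flat R B] :
    ∃ (A : Type u) (B₀ : Type u) (_ : CommRing A) (_ : CommRing B₀) (_ : IsNoetherianRing A) (_ : Algebra A B₀)
      (_ : Algebra.FinitePresentation A B₀) (_ : Module.Flat A B₀) (_ : Algebra A R),
      Function.Injective (algebraMap A R) ∧ Nonempty (R ⊗[A] B₀ ≃ₐ[R] B) := by
  obtain ⟨A₁, B₁, _, _, _, _, _, _, _, ⟨e⟩⟩ := RichLib.FlatModel.exists_flat_model R B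
  haveI : IsNoetherianRing A₁ := Algebra.FiniteType.isNoetherianRing ℤ A₁
  let A : Subalgebra A₁ R := (Algebra.ofId A₁ R).range
  haveI : IsNoetherianRing A := isNoetherianRing_of_surjective A₁ A
    (Algebra.ofId A₁ R).rangeRestrict.toRingHom (AlgHom.rangeRestrict_surjective _)
  exact ⟨A, A ⊗[A₁] B₁, inferInstance, inferInstance, inferInstance, inferInstance, inferInstance, inferInstance,
    inferInstance, Subtype.val_injective, ⟨(Algebra.TensorProduct.cancelBaseChange A₁ A R R B₁).trans e⟩⟩

/-- The affine core over a reduced ring. -/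
theorem isReduced_stalk_spec {R B : Type u} [CommRing R] [_root_.IsReduced R] [CommRing B] [Algebra R B]
    [Algebra.FinitePresentation R B] [Module.Flat R B] (q : PrimeSpectrum B)
    (hred : FBase.IsGeomReducedAt ((Spec.map (CommRingCat.ofHom (algebraMap R B))).fiberToSpecResidueField
      ((Spec.map (CommRingCat.ofHom (algebraMap R B))).base q))
      ((Spec.map (CommRingCat.ofHom (algebraMap R B))).asFiber q)) :
    _root_.IsReduced ((Spec (CommRingCat.of B)).presheaf.stalk q) := by
  classical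
  obtain ⟨A, B₀, _, _, _, _, _, _, _, hinj, ⟨e⟩⟩ := exists_flat_model_subring R B
  let L := (Spec (CommRingCat.of B)).presheaf.stalk q
  let : Algebra B L := StructureSheaf.stalkAlgebra B q
  haveI : IsLocalization.AtPrime L q.asIdeal := StructureSheaf.IsLocalization.to_stalk B q
  refine ⟨fun l hl ↦ ?_⟩
  obtain ⟨n, hn⟩ := hl
  obtain ⟨⟨a, s⟩, hla⟩ := IsLocalization.surj q.asIdeal.primeCompl l
  have h0 : algebraMap B L (a ^ n) = 0 := by rw [map_pow, ← hla, mul_pow, hn, zero_mul]
  obtain ⟨t, ht⟩ := (IsLocalization.map_eq_zero_iff q.asIdeal.primeCompl L _).mp h0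
  obtain ⟨S, hS, hlift⟩ := exists_fg_lift {e.symm a, e.symm t}
  haveI : IsNoetherianRing S :=
    haveI : Algebra.FiniteType A S := S.fg_iff_finiteType.mp hS
    Algebra.FiniteType.isNoetherianRing A S
  haveI : _root_.IsReduced S := isReduced_of_injective S.val Subtype.val_injective
  let ψ : S ⊗[A] B₀ →+* B :=
    e.toRingEquiv.toRingHom.comp (Algebra.TensorProduct.map S.val (AlgHom.id A B₀)).toRingHom
  have hψ : Function.Injective ψ := by
    refine e.injective.comp ?_
    exact Module.Flat.rTensor_preserves_injective_linearMap (M := B₀) S.val.toLinearMap Subtype.val_injective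
  obtain ⟨a₀, ha₀⟩ := hlift (e.symm a) (Finset.mem_insert_self _ _)
  obtain ⟨t₀, ht₀⟩ := hlift (e.symm t) (Finset.mem_insert_of_mem (Finset.mem_singleton_self _))
  have hψa : ψ a₀ = a := by
    show e (Algebra.TensorProduct.map S.val (AlgHom.id A B₀) a₀) = a
    rw [ha₀, e.apply_symm_apply]
  have hψt : ψ t₀ = t := by
    show e (Algebra.TensorProduct.map S.val (AlgHom.id A B₀) t₀) = t
    rw [ht₀, e.apply_symm_apply]
  have hzero : t₀ * a₀ ^ n = 0 := hψ (by rw [map_mul, map_pow, map_zero, hψa, hψt]; exact ht)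
  let q₀ : PrimeSpectrum (S ⊗[A] B₀) := PrimeSpectrum.comap ψ q
  let f₀ := Spec.map (CommRingCat.ofHom (algebraMap S (S ⊗[A] B₀)))
  let f := Spec.map (CommRingCat.ofHom (algebraMap R B))
  have sq : IsPullback (Spec.map (CommRingCat.ofHom ψ)) f f₀ (Spec.map (CommRingCat.ofHom S.val.toRingHom)) := by
    let e' : R ⊗[S] (S ⊗[A] B₀) ≃ₐ[R] B := (Algebra.TensorProduct.cancelBaseChange A S R R B₀).trans e
    have he' : ∀ z, e'.symm (e z) = (Algebra.TensorProduct.cancelBaseChange A S R R B₀).symm z := fun z ↦ by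
      show (Algebra.TensorProduct.cancelBaseChange A S R R B₀).symm (e.symm (e z)) = _
      rw [e.symm_apply_apply]
    have h := isPullback_SpecMap_of_isPushout _ _ _ _
      (CommRingCat.isPushout_tensorProduct S R (S ⊗[A] B₀))
    refine h.flip.of_iso (Scheme.Spec.mapIso e'.symm.toRingEquiv.toCommRingCatIso.op) (Iso.refl _) (Iso.refl _)
      (Iso.refl _) ?_ ?_ ?_ ?_
    all_goals simp only [Iso.refl_hom, Category.comp_id, Category.id_comp]
    · show _ = Spec.map _ ≫ Spec.map (CommRingCat.ofHom ψ)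
      rw [← Spec.map_comp]
      congr 1
      refine CommRingCat.hom_ext (Algebra.TensorProduct.ringHom_ext ?_ ?_)
      · ext x
        show (1 : R) ⊗ₜ[S] (x ⊗ₜ[A] (1 : B₀)) = e'.symm (e (x.1 ⊗ₜ[A] (1 : B₀)))
        rw [he']
        rw [AlgEquiv.eq_symm_apply, Algebra.TensorProduct.cancelBaseChange_tmul]
        simp [Algebra.smul_def]
      · ext x
        show (1 : R) ⊗ₜ[S] ((1 : S) ⊗ₜ[A] x) = e'.symm (e ((1 : R) ⊗ₜ[A] x))
        rw [he']
        rw [AlgEquiv.eq_symm_apply, Algebra.TensorProduct.cancelBaseChange_tmul]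
        simp
    · show _ = Spec.map _ ≫ f
      rw [← Spec.map_comp]
      congr 1
      refine CommRingCat.hom_ext (RingHom.ext fun r ↦ ?_)
      exact (e'.symm.commutes r).symm
    · rfl
    · rfl
  haveI : IsNoetherianRing (CommRingCat.of S : Type u) := inferInstanceAs (IsNoetherianRing S)
  haveI : Algebra.FinitePresentation S (S ⊗[A] B₀) := inferInstance
  haveI : LocallyOfFiniteType f₀ := by
    rw [HasRingHomProperty.Spec_iff (P := @LocallyOfFiniteType)]
    exact RingHom.finiteType_algebraMap.mpr inferInstance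
  haveI : Flat f₀ := by
    rw [HasRingHomProperty.Spec_iff (P := @Flat)]
    exact RingHom.flat_algebraMap_iff.mpr inferInstance
  have hred₀ : FBase.IsGeomReducedAt (f₀.fiberToSpecResidueField (f₀.base q₀)) (f₀.asFiber q₀) := by
    have hdesc := SecNhdLib.isGeomReducedAt_descend
      (isPullback_fiberToSpecResidueField_of_isPullback sq (f.base q)) (f.asFiber q) hred
    refine EquidimLib.isGeomReducedAt_congr f₀ ?_ hdesc
    rw [f₀.fiberι_asFiber]
    refine (Scheme.Hom.comp_apply _ _ _).symm.trans ((congrArg (fun q' : f.fiber (f.base q) ⟶ _ ↦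
      q'.base (f.asFiber q)) (pullback.lift_fst _ _ _)).trans ?_)
    exact (Scheme.Hom.comp_apply _ _ _).trans (congrArg (Spec.map (CommRingCat.ofHom ψ)).base (f.fiberι_asFiber q))
  have hr := DvrFlatLib.isReduced_stalk_of_flat_geomReduced f₀ q₀ (Flat.stalkMap f₀ q₀) hred₀
    (isReduced_spec_stalk S (f₀.base q₀))
  let L₀ := (Spec (CommRingCat.of (S ⊗[A] B₀))).presheaf.stalk q₀
  let : Algebra (S ⊗[A] B₀) L₀ := StructureSheaf.stalkAlgebra _ q₀
  haveI : IsLocalization.AtPrime L₀ q₀.asIdeal := StructureSheaf.IsLocalization.to_stalk _ q₀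
  have htq : t₀ ∈ q₀.asIdeal.primeCompl := fun h ↦ t.2 (hψt ▸ h)
  have h1 : algebraMap (S ⊗[A] B₀) L₀ a₀ = 0 := by
    have hnil : IsNilpotent (algebraMap (S ⊗[A] B₀) L₀ a₀) := by
      refine ⟨n, ?_⟩
      rw [← map_pow, IsLocalization.map_eq_zero_iff q₀.asIdeal.primeCompl]
      exact ⟨⟨t₀, htq⟩, hzero⟩
    haveI : _root_.IsReduced L₀ := hr
    exact hnil.eq_zero
  obtain ⟨t₁, ht₁⟩ := (IsLocalization.map_eq_zero_iff q₀.asIdeal.primeCompl L₀ _).mp h1
  have h2 : algebraMap B L a = 0 :=
    (IsLocalization.map_eq_zero_iff q.asIdeal.primeCompl L _).mpr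
      ⟨⟨ψ t₁.1, t₁.2⟩, by show ψ t₁.1 * a = 0; rw [← hψa, ← map_mul, ht₁, map_zero]⟩
  refine (IsLocalization.map_units L s).mul_left_eq_zero.mp ?_
  rw [hla, h2]

/-- EGA IV 11.3.13. -/
theorem isReduced_stalk {X Y : Scheme.{u}} (f : X ⟶ Y) [Flat f] [LocallyOfFinitePresentation f] (x : X)
    (hy : _root_.IsReduced (Y.presheaf.stalk (f.base x)))
    (hx : FBase.IsGeomReducedAt (f.fiberToSpecResidueField (f.base x)) (f.asFiber x)) :
    _root_.IsReduced (X.presheaf.stalk x) := by
  haveI := hy
  let g := Y.fromSpecStalk (f.base x)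
  haveI : Flat g := flat_fromSpecStalk Y (f.base x)
  let P := pullback f g
  obtain ⟨x', hx'1, -⟩ := UOpenLib.image_fst_snd (IsPullback.of_hasPullback f g) x (IsLocalRing.closedPoint _)
    Scheme.fromSpecStalk_closedPoint.symm
  have hred' := EquidimLib.isGeomReducedAt_baseChange f x hx (IsPullback.of_hasPullback f g) x' hx'1
  obtain ⟨W, hW, hxW, -⟩ := exists_isAffineOpen_mem_and_subset (x := x') (U := (⊤ : P.Opens)) trivial
  obtain ⟨φ, hφ⟩ := Spec.map_surjective (hW.fromSpec ≫ pullback.snd f g)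
  let B : Type u := Γ(P, W)
  letI : Algebra (Y.presheaf.stalk (f.base x)) B := φ.hom.toAlgebra
  have hh : Spec.map (CommRingCat.ofHom (algebraMap (Y.presheaf.stalk (f.base x)) B)) =
      hW.fromSpec ≫ pullback.snd f g := hφ
  haveI : Module.Flat (Y.presheaf.stalk (f.base x)) B := by
    have : Flat (Spec.map φ) := by rw [hφ]; infer_instance
    exact RingHom.flat_algebraMap_iff.mp (HasRingHomProperty.Spec_iff.mp this)
  haveI : Algebra.FinitePresentation (Y.presheaf.stalk (f.base x)) B := by
    have : LocallyOfFinitePresentation (Spec.map φ) := by rw [hφ]; infer_instance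
    exact RingHom.finitePresentation_algebraMap.mp
      ((HasRingHomProperty.Spec_iff (P := @LocallyOfFinitePresentation)).mp this)
  obtain ⟨q, hq⟩ : x' ∈ Set.range hW.fromSpec.base := by rw [hW.range_fromSpec]; exact hxW
  let h := Spec.map φ
  have hredh : FBase.IsGeomReducedAt (h.fiberToSpecResidueField (h.base q)) (h.asFiber q) := by
    subst hq
    let ψ' : h.fiber (h.base q) ⟶ (pullback.snd f g).fiber (h.base q) :=
      pullback.map _ _ _ _ hW.fromSpec (𝟙 _) (𝟙 _) (by rw [Category.comp_id]; exact hφ) (by simp)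
    have h1 : ψ' ≫ (pullback.snd f g).fiberι _ = h.fiberι _ ≫ hW.fromSpec := pullback.lift_fst _ _ _
    have h2 : ψ' ≫ (pullback.snd f g).fiberToSpecResidueField _ = h.fiberToSpecResidueField _ :=
      (pullback.lift_snd _ _ _).trans (Category.comp_id _)
    have sq : IsPullback (h.fiberι (h.base q)) ψ' hW.fromSpec ((pullback.snd f g).fiberι (h.base q)) := by
      refine IsPullback.of_bot ?_ h1.symm (IsPullback.of_hasPullback (pullback.snd f g) _)
      rw [show ψ' ≫ pullback.snd (pullback.snd f g) _ = _ from h2, show hW.fromSpec ≫ pullback.snd f g = h from hφ.symm]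
      exact IsPullback.of_hasPullback _ _
    haveI : IsOpenImmersion ψ' := MorphismProperty.of_isPullback (P := @IsOpenImmersion) sq inferInstance
    have h3 : ((pullback.snd f g).fiberι (h.base q)).base (ψ'.base (h.asFiber q)) = hW.fromSpec.base q := by
      rw [← Scheme.Hom.comp_apply, h1, Scheme.Hom.comp_apply, h.fiberι_asFiber]
    have h4 := EquidimLib.isGeomReducedAt_congr (pullback.snd f g) (a' := ψ'.base (h.asFiber q))
      (((pullback.snd f g).fiberι_asFiber _).trans h3.symm) hred'
    have h5 := (EquidimLib.isGeomReducedAt_iff_of_isOpenImmersion (k := (Spec (Y.presheaf.stalk (f.base x))).residueField (h.base q))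
      ψ' ((pullback.snd f g).fiberToSpecResidueField (h.base q)) (h.asFiber q)).mpr h4
    rwa [h2] at h5
  have hB := isReduced_stalk_spec (R := Y.presheaf.stalk (f.base x)) (B := B) q hredh
  haveI : Flat (hW.fromSpec ≫ pullback.fst f g) := inferInstance
  have h6 := SecNhdLib.isReduced_of_flat_point (hW.fromSpec ≫ pullback.fst f g) q hB
  rwa [Scheme.Hom.comp_apply, hq, hx'1] at h6

end RedFlatLib
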